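import Cfsg.Agent.H852.IMMathieu
import Cfsg.Agent.H417.DegMTwentyTwo
import Cfsg.Agent.H417.DegMTwentyThree
import Cfsg.Agent.NotCT.Orders

/-!
# S4844: the rows of the Mathieu groups (helper941)

`sq_m11`, `sq_m12`, `sq_m22`, `sq_m23`, `sq_m24` : for an odd prime `p` with `p ^ 2 ∣ |S|` some irreducible degree is divisible
by `p ^ 2` (degrees 45, 54, 99, 45, 252).
-/

set_option autoImplicit false
set_option linter.unusedSectionVars false
open scoped Pointwise
open Cfsg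

namespace Cfsg.Agent.H941.Sq

open Cfsg.Agent.H33 Cfsg.Agent.H852.IMMathieu

universe u

/-- The primes whose square divides `n`. -/
theorem eq_of_sq {p : ℕ} (hp : p.Prime) {n : ℕ} (h : p ^ 2 ∣ n) (l : List ℕ) (hl : ∀ q ∈ l, q.Prime) (hn : n ∣ l.prod) :
    p ∈ l ∧ p ^ 2 ∣ n := ⟨prime_cases hp l hl ((dvd_pow_self p two_ne_zero).trans h) hn, h⟩

theorem im_m11 : IM 9 Spor.M11 := by
  refine im_perm_four Spor.M11 ((Spor.squareDodecad : Set GolayPt) \ {some 0}) ?_ 4 ?_ le_rfl (n := 11) ?_ (by norm_num)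
    (Or.inr (Or.inl (by decide)))
  · intro g hg x hx
    refine ⟨Cfsg.Agent.CoThreeStd.M12.smul_mem' hg.1 hx.1, fun h1 => hx.2 ?_⟩
    have h2 : g (some 0) = some 0 := hg.2
    exact g.injective ((show g x = some 0 from h1).trans h2.symm)
  · intro x y hx hy
    have hinj : ∀ z : Fin 4 ↪ GolayPt, (∀ i, z i ∈ (Spor.squareDodecad : Set GolayPt) \ {some 0}) →
        Function.Injective (Fin.cons (some 0) z : Fin 5 → GolayPt) := by
      intro z hz
      rw [Fin.cons_injective_iff]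
      refine ⟨?_, z.injective⟩
      rintro ⟨i, hi⟩
      exact (hz i).2 hi
    have hmem : ∀ z : Fin 4 ↪ GolayPt, (∀ i, z i ∈ (Spor.squareDodecad : Set GolayPt) \ {some 0}) →
        ∀ i, (Fin.cons (some 0) z : Fin 5 → GolayPt) i ∈ Spor.squareDodecad := by
      intro z hz i
      refine Fin.cases ?_ (fun j => ?_) i
      · exact zero_mem
      · exact (hz j).1
    obtain ⟨g, hg, -⟩ := Cfsg.Agent.S0384.result _ dod_mem ⟨_, hinj x hx⟩ ⟨_, hinj y hy⟩ (hmem x hx) (hmem y hy)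
    exact ⟨((g : M24) : Equiv.Perm GolayPt), ⟨⟨(g : M24).2, g.2⟩, hg 0⟩, fun i => hg i.succ⟩
  · rw [Nat.card_coe_set_eq, Set.ncard_sdiff_singleton_of_mem (by exact zero_mem), Set.ncard_coe_finset,
      card_dod dod_mem]

theorem im_m12 : IM 9 Spor.M12 := by
  refine im_perm_four Spor.M12 (Spor.squareDodecad : Set GolayPt) ?_ 5 ?_ (by norm_num) (n := 12) ?_ (by norm_num)
    (Or.inr (Or.inr (by decide)))
  · intro g hg x hx
    exact Cfsg.Agent.CoThreeStd.M12.smul_mem' hg hx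
  · intro x y hx hy
    obtain ⟨g, hg, -⟩ := Cfsg.Agent.S0384.result _ dod_mem x y hx hy
    exact ⟨((g : M24) : Equiv.Perm GolayPt), ⟨(g : M24).2, g.2⟩, hg⟩
  · rw [Nat.card_coe_set_eq, Set.ncard_coe_finset, card_dod dod_mem]

theorem im_m24 : IM 9 M24 := by
  refine im_perm_four M24 Set.univ ?_ 5 ?_ (by norm_num) (n := 24) ?_ (by norm_num) (Or.inr (Or.inr (by decide)))
  · intro g _ x _
    trivial
  · intro x y _ _
    obtain ⟨g, hg⟩ := Cfsg.Agent.SporadicStructure.M23Index253.exists_map Cfsg.Agent.S0366.result le_rfl _ _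
      x.injective y.injective
    exact ⟨(g : Equiv.Perm GolayPt), g.2, hg⟩
  · rw [Nat.card_coe_set_eq, Set.ncard_univ, Nat.card_eq_fintype_card]
    decide

section rows

variable {S : Type u} [Group S] [Finite S] {p : ℕ} [hp : Fact p.Prime]

theorem sq_m11 (h : Spor.IsoM11 S) (_hs : IsSimpleGroup S) (hp2 : p ≠ 2) (hd : p ^ 2 ∣ Nat.card S) : IM (p ^ 2) S := by
  rw [NotCT.Orders.m11 h] at hd
  obtain ⟨hm, hd⟩ := eq_of_sq hp.out hd [2, 2, 2, 2, 3, 3, 5, 11] (by decide) (by decide)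
  obtain ⟨e⟩ := h
  simp only [List.mem_cons, List.not_mem_nil, or_false] at hm
  rcases hm with rfl | rfl | rfl | rfl | rfl | rfl | rfl | rfl <;>
    first | exact absurd rfl hp2 | exact absurd hd (by decide) | exact IM.of_equiv e im_m11

theorem sq_m12 (h : Spor.IsoM12 S) (_hs : IsSimpleGroup S) (hp2 : p ≠ 2) (hd : p ^ 2 ∣ Nat.card S) : IM (p ^ 2) S := by
  rw [NotCT.Orders.m12 h] at hd
  obtain ⟨hm, hd⟩ := eq_of_sq hp.out hd [2, 2, 2, 2, 2, 2, 3, 3, 3, 5, 11] (by decide) (by decide)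
  obtain ⟨e⟩ := h
  simp only [List.mem_cons, List.not_mem_nil, or_false] at hm
  rcases hm with rfl | rfl | rfl | rfl | rfl | rfl | rfl | rfl | rfl | rfl | rfl <;>
    first | exact absurd rfl hp2 | exact absurd hd (by decide) | exact IM.of_equiv e im_m12

theorem sq_m22 (h : Spor.IsoM22 S) (hs : IsSimpleGroup S) (hp2 : p ≠ 2) (hd : p ^ 2 ∣ Nat.card S) : IM (p ^ 2) S := by
  have hc := NotCT.Orders.m22 h
  rw [hc] at hd
  obtain ⟨hm, hd⟩ := eq_of_sq hp.out hd [2, 2, 2, 2, 2, 2, 2, 3, 3, 5, 7, 11] (by decide) (by decide)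
  have h99 : IM (3 ^ 2) S := by
    obtain ⟨χ, hχ⟩ := H417.DegMTwentyTwo.mem_99 (G := S) ⟨hs, hc⟩
    exact ⟨χ, by rw [hχ]; decide⟩
  simp only [List.mem_cons, List.not_mem_nil, or_false] at hm
  rcases hm with rfl | rfl | rfl | rfl | rfl | rfl | rfl | rfl | rfl | rfl | rfl | rfl <;>
    first | exact absurd rfl hp2 | exact absurd hd (by decide) | exact h99

theorem sq_m23 (h : Spor.IsoM23 S) (hs : IsSimpleGroup S) (hp2 : p ≠ 2) (hd : p ^ 2 ∣ Nat.card S) : IM (p ^ 2) S := by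
  have hc := NotCT.Orders.m23 h
  rw [hc] at hd
  obtain ⟨hm, hd⟩ := eq_of_sq hp.out hd [2, 2, 2, 2, 2, 2, 2, 3, 3, 5, 7, 11, 23] (by decide) (by decide)
  have h45 : IM (3 ^ 2) S := by
    obtain ⟨_, H, z, v, a, b, c, d, g, h, b₁, c₁, K⟩ := H417.DegMTwentyThree.exists_elev' (G := S) ⟨hs, hc⟩
    have h1 : charDegree (b : S → ℂ) = 45 := K.dgb
    exact ⟨b, by rw [h1]; decide⟩
  simp only [List.mem_cons, List.not_mem_nil, or_false] at hm
  rcases hm with rfl | rfl | rfl | rfl | rfl | rfl | rfl | rfl | rfl | rfl | rfl | rfl | rfl <;>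
    first | exact absurd rfl hp2 | exact absurd hd (by decide) | exact h45

theorem sq_m24 (h : Spor.IsoM24 S) (_hs : IsSimpleGroup S) (hp2 : p ≠ 2) (hd : p ^ 2 ∣ Nat.card S) : IM (p ^ 2) S := by
  rw [NotCT.Orders.m24 h] at hd
  obtain ⟨hm, hd⟩ := eq_of_sq hp.out hd [2, 2, 2, 2, 2, 2, 2, 2, 2, 2, 3, 3, 3, 5, 7, 11, 23] (by decide) (by decide)
  obtain ⟨e⟩ := h
  simp only [List.mem_cons, List.not_mem_nil, or_false] at hm
  rcases hm with rfl | rfl | rfl | rfl | rfl | rfl | rfl | rfl | rfl | rfl | rfl | rfl | rfl | rfl | rfl | rfl | rfl <;>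
    first | exact absurd rfl hp2 | exact absurd hd (by decide) | exact IM.of_equiv e im_m24

end rows

end Cfsg.Agent.H941.Sq
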