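import Cfsg.Agent.H941.Sq.Mathieu
import Cfsg.Agent.H941.Imc.JThree
import Cfsg.Agent.H653.Spor.J4Dz
import Cfsg.Agent.H681.Van.McLFive
import Cfsg.Agent.H314.LyOrb.Deg
import Cfsg.Agent.H34.SporJ2

/-!
# S4844: rows of sporadic groups from known degrees (helper941)

`sq_j3`, `sq_j4`, `sq_mcl`, `sq_ly` (all odd primes), `sq_j2_three`.
-/

set_option autoImplicit false
set_option linter.unusedSectionVars false
open Cfsg

namespace Cfsg.Agent.H941.Sq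

open Cfsg.Agent.H33 Cfsg.Agent.H852.IMMathieu

universe u

section rows

variable {S : Type u} [Group S] [Finite S] {p : ℕ} [hp : Fact p.Prime]

theorem im_of_hasDZ (h : H665.NoPQ.HasDZ p S) {n : ℕ} (hn : p ^ n ∣ Nat.card S) : IM (p ^ n) S := by
  obtain ⟨χ, hχ⟩ := h
  refine ⟨χ, ?_⟩
  rw [hp.out.pow_dvd_iff_le_factorization (Cfsg.Agent.Blocks.Basic.charDegree_pos χ.2).ne', hχ]
  exact (hp.out.pow_dvd_iff_le_factorization Nat.card_pos.ne').1 hn

theorem sq_j3 (h : Spor.IsoJ3 S) (_hs : IsSimpleGroup S) (hp2 : p ≠ 2) (hd : p ^ 2 ∣ Nat.card S) : IM (p ^ 2) S := by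
  rw [NotCT.Orders.j3 h] at hd
  obtain ⟨hm, hd⟩ := eq_of_sq hp.out hd [2, 2, 2, 2, 2, 2, 2, 3, 3, 3, 3, 3, 5, 17, 19] (by decide) (by decide)
  obtain ⟨-, χ, hχ⟩ := Imc.JThree.exists_dvd h
  have h3 : IM (3 ^ 2) S := ⟨χ, (pow_dvd_pow 3 (by norm_num)).trans hχ⟩
  simp only [List.mem_cons, List.not_mem_nil, or_false] at hm
  rcases hm with rfl | rfl | rfl | rfl | rfl | rfl | rfl | rfl | rfl | rfl | rfl | rfl | rfl | rfl | rfl <;>
    first | exact absurd rfl hp2 | exact absurd hd (by decide) | exact h3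

theorem sq_j4 (h : Spor.IsoJ4 S) (_hs : IsSimpleGroup S) (hp2 : p ≠ 2) (hd : p ^ 2 ∣ Nat.card S) : IM (p ^ 2) S := by
  rw [NotCT.Orders.j4 h] at hd
  obtain ⟨hm, hd⟩ := eq_of_sq hp.out hd ([3, 3, 3, 5, 7, 11, 11, 11, 23, 29, 31, 37, 43] ++ List.replicate 21 2) (by decide)
    (by decide)
  have h3 : IM (3 ^ 2) S := by
    obtain ⟨d, ⟨χ, rfl⟩, hχ⟩ := H653.Spor.J4Dz.exists_deg h (m := 27) (by decide)
    exact ⟨χ, Dvd.dvd.trans (by decide) hχ⟩
  have h11 : IM (11 ^ 2) S := by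
    obtain ⟨d, ⟨χ, rfl⟩, hχ⟩ := H653.Spor.J4Dz.exists_deg h (m := 1331) (by decide)
    exact ⟨χ, Dvd.dvd.trans (by decide) hχ⟩
  rw [List.mem_append, List.mem_replicate] at hm
  rcases hm with hm | ⟨-, hm⟩
  · simp only [List.mem_cons, List.not_mem_nil, or_false] at hm
    rcases hm with rfl | rfl | rfl | rfl | rfl | rfl | rfl | rfl | rfl | rfl | rfl | rfl | rfl <;>
      first | exact absurd hd (by decide) | exact h3 | exact h11
  · exact absurd hm hp2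

theorem sq_mcl (h : Spor.IsoMcL S) (_hs : IsSimpleGroup S) (hp2 : p ≠ 2) (hd : p ^ 2 ∣ Nat.card S) : IM (p ^ 2) S := by
  have hd0 := hd
  rw [NotCT.Orders.mcl h] at hd
  obtain ⟨hm, hd⟩ := eq_of_sq hp.out hd [2, 2, 2, 2, 2, 2, 2, 3, 3, 3, 3, 3, 3, 5, 5, 5, 7, 11] (by decide) (by decide)
  simp only [List.mem_cons, List.not_mem_nil, or_false] at hm
  rcases hm with rfl | rfl | rfl | rfl | rfl | rfl | rfl | rfl | rfl | rfl | rfl | rfl | rfl | rfl | rfl | rfl | rfl | rfl <;>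
    first | exact absurd rfl hp2 | exact absurd hd (by decide) | exact im_of_hasDZ (H681.Van.McLFive.hasDZ_three h) hd0 |
      exact im_of_hasDZ (H681.Van.McLFive.hasDZ_five h) hd0

theorem sq_ly (h : Spor.IsoLy S) (_hs : IsSimpleGroup S) (hp2 : p ≠ 2) (hd : p ^ 2 ∣ Nat.card S) : IM (p ^ 2) S := by
  rw [NotCT.Orders.ly h] at hd
  obtain ⟨hm, hd⟩ := eq_of_sq hp.out hd ([3, 3, 3, 3, 3, 3, 3, 5, 5, 5, 5, 5, 5, 7, 11, 31, 37, 67] ++ List.replicate 8 2)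
    (by decide) (by decide)
  obtain ⟨e⟩ := h
  obtain ⟨χ, -, hχ⟩ := H314.LyOrb.exists_deg_ly
  have hχ2 : charDegree (χ 2 : Spor.Ly → ℂ) = 1534500 := hχ 2
  have h3 : IM (3 ^ 2) S := IM.of_equiv e ⟨χ 2, by rw [hχ2]; decide⟩
  have h5 : IM (5 ^ 2) S := IM.of_equiv e ⟨χ 2, by rw [hχ2]; decide⟩
  rw [List.mem_append, List.mem_replicate] at hm
  rcases hm with hm | ⟨-, hm⟩
  · simp only [List.mem_cons, List.not_mem_nil, or_false] at hm
    rcases hm with rfl | rfl | rfl | rfl | rfl | rfl | rfl | rfl | rfl | rfl | rfl | rfl | rfl | rfl | rfl | rfl | rfl | rfl <;>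
      first | exact absurd hd (by decide) | exact h3 | exact h5
  · exact absurd hm hp2

theorem sq_j2_three (h : Spor.IsoJ2 S) : IM (3 ^ 2) S := by
  obtain ⟨e⟩ := h
  have : Finite Spor.J2 := Finite.of_equiv S e.toEquiv
  obtain ⟨χ, hχ⟩ := H34.SporJ2.exists_63
  exact IM.of_equiv e ⟨χ, by rw [hχ]; decide⟩

end rows

end Cfsg.Agent.H941.Sq
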