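import Cfsg.Agent.H941.Sq.Rows
import Cfsg.Agent.H852.PSq.JTwo

/-!
# S4844: the row `J₂` (helper941, helper852)
-/

set_option autoImplicit false
open Cfsg

namespace Cfsg.Agent.H941.Sq

open Cfsg.Agent.H33

universe u

theorem sq_j2 {S : Type u} [Group S] [Finite S] (h : Cfsg.Spor.IsoJ2 S) (_hs : IsSimpleGroup S) {p : ℕ}
    [hp : Fact p.Prime] (hp2 : p ≠ 2) (hd : p ^ 2 ∣ Nat.card S) : Cfsg.Agent.H33.IM (p ^ 2) S :=
  sq_j2_of h (H852.PSq.JTwo.sq_j2_five h) hp2 hd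

end Cfsg.Agent.H941.Sq
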