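import Cfsg.Agent.H442.Imc.Pair
import Cfsg.Agent.H710.PSq.Local

/-!
# Tools for the rows `p ^ 2 ∣ χ(1)` of S4844 (helper941)

`im_sq_of_pair` : T3 for two commuting elements of order `p` (`imc_of_pair` of helper442) with the exponent 2, for
`p ^ 3 ∣ |G|`.
-/

set_option autoImplicit false

open Cfsg Cfsg.Agent.Characters.Core Cfsg.Agent.Blocks.Basic
open Cfsg.Agent.H713 Cfsg.Agent.H713.Count Cfsg.Agent.H33 Cfsg.Agent.H665.NoPQ
open Cfsg.Agent.H492.IMTools Cfsg.Agent.H625.SylConst Cfsg.Agent.H794.Imc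

namespace Cfsg.Agent.H941.Sq

universe u v

variable {G : Type u} [Group G] {p : ℕ} [hp : Fact p.Prime]

/-- **T3 for two commuting elements of order `p`.** -/
theorem im_sq_of_pair [Finite G] {x y : G} (hx : orderOf x = p) (hy : orderOf y = p)
    (hcomm : y * x = x * y) (hyx : y ∉ Subgroup.zpowers x)
    (hxy : ∀ q : ℕ, q.Prime → q ≠ p →
      ¬ q ∣ Nat.card ↥(Subgroup.centralizer ({x} : Set G) ⊓ Subgroup.centralizer ({y} : Set G)))
    {m : ℕ} (hC : Nat.card (Subgroup.centralizer ({x} : Set G)) = p ^ 2 * m) (hpm : ¬ p ∣ m)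
    (s : Finset ℕ) (hs : ∀ n ∈ s, ¬ p ∣ n ∧ ∃ g : G, g * x = x * g ∧ orderOf g = n)
    (hcard : m % p ∣ p - 1 → m % p < s.card) (hG3 : p ^ 3 ∣ Nat.card G) : IM (p ^ 2) G := by
  classical
  set C := Subgroup.centralizer ({x} : Set G) with hCdef
  set z : C := ⟨x, Subgroup.mem_centralizer_singleton_iff.2 rfl⟩ with hz
  set y' : C := ⟨y, Subgroup.mem_centralizer_singleton_iff.2 hcomm⟩ with hy'
  have hzo : orderOf z = p := by rw [hz, Subgroup.orderOf_mk, hx]
  have hyo : orderOf y' = p := by rw [hy', Subgroup.orderOf_mk, hy]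
  have hzc : ∀ c : C, c * z = z * c := fun c =>
    Subtype.ext (Subgroup.mem_centralizer_singleton_iff.1 c.2)
  have hnorm : (Subgroup.zpowers z).Normal := by
    refine ⟨fun n hn g => ?_⟩
    obtain ⟨k, rfl⟩ := hn
    have : g * z ^ k * g⁻¹ = z ^ k := by
      rw [((show Commute g z from hzc g).zpow_right k).eq, mul_inv_cancel_right]
    show g * z ^ k * g⁻¹ ∈ _
    rw [this]
    exact ⟨k, rfl⟩
  have hm : m ≠ 0 := by rintro rfl; exact hpm (dvd_zero _)
  -- the quotient
  have hH : Nat.card (C ⧸ Subgroup.zpowers z) = p * m := by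
    have h1 := Subgroup.card_eq_card_quotient_mul_card_subgroup (Subgroup.zpowers z)
    rw [hC, Nat.card_zpowers, hzo] at h1
    have h2 : p * (p * m) = p * Nat.card (C ⧸ Subgroup.zpowers z) := by
      rw [mul_comm p (Nat.card _), ← h1]; ring
    exact (Nat.eq_of_mul_eq_mul_left hp.out.pos h2).symm
  have hHf : (Nat.card (C ⧸ Subgroup.zpowers z)).factorization p = 1 := by
    rw [hH, Nat.factorization_mul hp.out.ne_zero hm, Finsupp.add_apply,
      hp.out.factorization_self, Nat.factorization_eq_zero_of_not_dvd hpm]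
  have hyb : orderOf (QuotientGroup.mk y' : C ⧸ Subgroup.zpowers z) = p := by
    apply orderOf_eq_prime
    · have : (QuotientGroup.mk y' : C ⧸ Subgroup.zpowers z) ^ p = QuotientGroup.mk (y' ^ p) := rfl
      rw [this, ← hyo, pow_orderOf_eq_one]
      rfl
    · intro h
      rw [QuotientGroup.eq_one_iff] at h
      obtain ⟨k, hk⟩ := h
      apply hyx
      refine ⟨k, ?_⟩
      have := congrArg Subtype.val hk
      exact this
  have hq : ∀ q : ℕ, q.Prime → q ≠ p → ¬ q ∣ Nat.card (Subgroup.centralizer ({y'} : Set C)) := by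
    intro q hq hne hd
    refine hxy q hq hne (hd.trans (dvd_of_eq ?_))
    apply Nat.card_congr
    refine
      { toFun := fun c => ⟨c.1.1, c.1.2, ?_⟩
        invFun := fun c => ⟨⟨c.1, c.2.1⟩, ?_⟩
        left_inv := fun _ => rfl
        right_inv := fun _ => rfl }
    · have h1 := Subgroup.mem_centralizer_singleton_iff.1 c.2
      exact Subgroup.mem_centralizer_singleton_iff.2 (congrArg Subtype.val h1)
    · rw [Subgroup.mem_centralizer_singleton_iff]
      exact Subtype.ext (Subgroup.mem_centralizer_singleton_iff.1 c.2.2)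
  have hpg := isPGroup_centralizer_mk (p := p) (by rw [← hzo]; exact pow_orderOf_eq_one z) hzc hq
  have hcb : Nat.card (Subgroup.centralizer
      ({(QuotientGroup.mk y' : C ⧸ Subgroup.zpowers z)} : Set (C ⧸ Subgroup.zpowers z))) = p := by
    obtain ⟨k, hk⟩ := IsPGroup.iff_card.1 hpg
    have h1 : p ∣ p ^ k := by
      rw [← hk, ← hyb, ← Subgroup.orderOf_mk _ (Subgroup.mem_centralizer_singleton_iff.2 rfl)]
      exact orderOf_dvd_natCard _
    have h2 : p ^ k ∣ p * m := by rw [← hk, ← hH]; exact Subgroup.card_subgroup_dvd_card _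
    have h3 : k = 1 := by
      rcases Nat.lt_trichotomy k 1 with h | h | h
      · have : k = 0 := by omega
        rw [this, pow_zero] at h1
        exact absurd (Nat.le_of_dvd one_pos h1) (by have := hp.out.one_lt; omega)
      · exact h
      · exfalso
        apply hpm
        have h4 : p ^ 2 ∣ p * m := (pow_dvd_pow p h).trans h2
        rw [pow_two] at h4
        exact Nat.dvd_of_mul_dvd_mul_left hp.out.pos h4
    rw [hk, h3, pow_one]
  have hdiv : Nat.card (C ⧸ Subgroup.zpowers z) / p = m := by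
    rw [hH, Nat.mul_div_cancel_left _ hp.out.pos]
  have hlt : m % p < s.card := by
    apply hcard
    have h1 := card_fus_eq hHf hyb (c := 1) (by rw [hcb, mul_one]) (e := m % p) (by
      intro k hk h
      rw [mul_one, hdiv, Nat.mod_eq_of_lt hk] at h
      exact h)
    exact Dvd.intro _ h1.2
  have hdz : HasDZ p (C ⧸ Subgroup.zpowers z) := hasDZ_of_orders hHf hyb hcb s ?_ (by rw [hdiv]; exact hlt)
  · obtain ⟨χ, hχ⟩ := hdz
    refine H710.PSq.im_pow_of_cent x hx (a := 1) ?_ ?_ (k := 2) hG3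
    · refine IM.of_surjective (QuotientGroup.mk' (Subgroup.zpowers z)) (QuotientGroup.mk'_surjective _) ⟨χ, ?_⟩
      rw [hp.out.pow_dvd_iff_le_factorization (Cfsg.Agent.Blocks.Basic.charDegree_pos χ.2).ne', hχ, hHf]
    · rw [← hCdef, hC, Nat.factorization_mul (pow_ne_zero _ hp.out.ne_zero) hm,
        Finsupp.add_apply, Nat.factorization_eq_zero_of_not_dvd hpm, hp.out.factorization_pow,
        Finsupp.single_eq_same]
  · intro n hn
    obtain ⟨h1, g, hg, hgn⟩ := hs n hn
    refine ⟨h1, QuotientGroup.mk ⟨g, Subgroup.mem_centralizer_singleton_iff.2 hg⟩, ?_⟩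
    set g' : C := ⟨g, Subgroup.mem_centralizer_singleton_iff.2 hg⟩ with hg'
    have hgo : orderOf g' = n := by rw [hg', Subgroup.orderOf_mk, hgn]
    have h2 : orderOf (QuotientGroup.mk g' : C ⧸ Subgroup.zpowers z) ∣ n := by
      rw [← hgo]
      exact orderOf_map_dvd (QuotientGroup.mk' (Subgroup.zpowers z)) g'
    apply Nat.dvd_antisymm h2
    set o := orderOf (QuotientGroup.mk g' : C ⧸ Subgroup.zpowers z) with ho
    have h3 : g' ^ o ∈ Subgroup.zpowers z := by
      rw [← QuotientGroup.eq_one_iff]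
      have : (QuotientGroup.mk (g' ^ o) : C ⧸ Subgroup.zpowers z) =
        (QuotientGroup.mk g' : C ⧸ Subgroup.zpowers z) ^ o := rfl
      rw [this, ho, pow_orderOf_eq_one]
    have h4 : (g' ^ o) ^ p = 1 := by
      obtain ⟨k, hk⟩ := h3
      rw [← hk]
      show (z ^ k) ^ p = 1
      rw [← zpow_natCast, ← zpow_mul, mul_comm, zpow_mul, zpow_natCast, ← hzo, pow_orderOf_eq_one,
        one_zpow]
    rw [← pow_mul] at h4
    have h5 := orderOf_dvd_of_pow_eq_one h4
    rw [hgo] at h5
    have hcop : Nat.Coprime n p := by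
      rw [Nat.coprime_comm, Nat.Prime.coprime_iff_not_dvd hp.out]; exact h1
    exact hcop.dvd_of_dvd_mul_right h5

end Cfsg.Agent.H941.Sq
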