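import Cfsg.Agent.H492.IMHe
import Cfsg.Agent.H941.Sq.Pair

/-!
# S4844: the Held group, the primes 3 and 7 (helper941)

`im3`, `im7` : degrees divisible by `3 ^ 2` and `7 ^ 2` (blocks with a defect group of order `p`).
-/

set_option autoImplicit false
set_option maxRecDepth 100000

namespace Cfsg.Agent.H941.Sq.He

open Subgroup Cfsg
open Cfsg.Spor.He (Gen)
open Cfsg.Agent.SporadicB.HePerm (act wd)
open Cfsg.Agent.FixBN.HeStab Cfsg.Agent.KFacts.He.Lv Cfsg.Agent.CpAutHe.Cnt
open Cfsg.Agent.H492.IMHeCnt Cfsg.Agent.H492.IMHeDat Cfsg.Agent.H492.IMTools Cfsg.Agent.H33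
open Cfsg.Agent.H713 Cfsg.Agent.H713.Count Cfsg.Agent.H665.NoPQ
open Cfsg.Agent.H492.IMHe

universe u

theorem im3 : IM (3 ^ 2) Cfsg.Spor.He := by
  have hfin : Finite Cfsg.Spor.He := Nat.finite_of_card_ne_zero (by rw [card_he]; norm_num)
  have hp := pair (p := 3) XB3 YB3 _ o3 oy3 (by decide +kernel) (by decide +kernel)
    (by norm_num) qB3
  have hle : Nat.card (centralizer ({wd XB3} : Set Cfsg.Spor.He)) ≤ 126 * (4 * 1) :=
    qA3 _ (bd_one _ _)
  have h7 : 7 ∣ Nat.card (centralizer ({wd XB3} : Set Cfsg.Spor.He)) :=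
    dvd_cent (comm_of_chk (by decide +kernel)) oz37
  have h4 : 4 ∣ Nat.card (centralizer ({wd XB3} : Set Cfsg.Spor.He)) :=
    dvd_cent (comm_of_chk (by decide +kernel)) o4'
  have h0 : 0 < Nat.card (centralizer ({wd XB3} : Set Cfsg.Spor.He)) := Nat.card_pos
  obtain ⟨m, hm⟩ := hp.1
  have h3 := arith3 hle h7 h4 h0 hm
  refine im_sq_of_pair (x := wd XB3) (y := wd YB3) o3 oy3 (comm_of_chk (by decide +kernel))
    (not_mem_zpowers_of (by norm_num) o3 (by decide +kernel)) hp.2 hm h3 {1, 4, 7} ?_ ?_ (by rw [card_he]; norm_num)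
  · intro n hn
    simp only [Finset.mem_insert, Finset.mem_singleton] at hn
    rcases hn with rfl | rfl | rfl
    exacts [⟨by norm_num, _, comm_of_chk (by decide +kernel), o1⟩,
      ⟨by norm_num, _, comm_of_chk (by decide +kernel), o4'⟩,
      ⟨by norm_num, _, comm_of_chk (by decide +kernel), oz37⟩]
  · intro _
    exact lt_of_lt_of_le (Nat.mod_lt m (by norm_num)) (by decide)

theorem im7 : IM (7 ^ 2) Cfsg.Spor.He := by
  have hfin : Finite Cfsg.Spor.He := Nat.finite_of_card_ne_zero (by rw [card_he]; norm_num)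
  have hp := pair (p := 7) XB7 YB7 _ o7 oy7 (by decide +kernel) (by decide +kernel)
    (by norm_num) qB7
  have hle : Nat.card (centralizer ({wd XB7} : Set Cfsg.Spor.He)) ≤ 1176 :=
    Cfsg.Agent.CpAutHe.Bound.card0
  have h3 : 3 ∣ Nat.card (centralizer ({wd XB7} : Set Cfsg.Spor.He)) :=
    dvd_cent (comm_of_chk (by decide +kernel)) oz73
  have h4 : 4 ∣ Nat.card (centralizer ({wd XB7} : Set Cfsg.Spor.He)) :=
    dvd_cent (comm_of_chk (by decide +kernel)) o4
  have h0 : 0 < Nat.card (centralizer ({wd XB7} : Set Cfsg.Spor.He)) := Nat.card_pos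
  obtain ⟨m, hm⟩ := hp.1
  have hm' := arith7 hle h3 h4 h0 hm
  have hm7 : ¬ 7 ∣ m := by rcases hm' with rfl | rfl <;> decide
  refine im_sq_of_pair (x := wd XB7) (y := wd YB7) o7 oy7 (comm_of_chk (by decide +kernel))
    (not_mem_zpowers_of (by norm_num) o7 (by decide +kernel)) hp.2 hm hm7 {1, 2, 3, 4} ?_ ?_ (by rw [card_he]; norm_num)
  · intro n hn
    simp only [Finset.mem_insert, Finset.mem_singleton] at hn
    rcases hn with rfl | rfl | rfl | rfl
    exacts [⟨by norm_num, _, comm_of_chk (by decide +kernel), o1⟩,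
      ⟨by norm_num, _, comm_of_chk (by decide +kernel), o2⟩,
      ⟨by norm_num, _, comm_of_chk (by decide +kernel), oz73⟩,
      ⟨by norm_num, _, comm_of_chk (by decide +kernel), o4⟩]
  · rcases hm' with rfl | rfl
    · intro h; exact absurd h (by decide)
    · intro _; decide

end Cfsg.Agent.H941.Sq.He
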