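import Cfsg.Agent.H941.Sq.Col
import Cfsg.Agent.H941.Sq.He
import Cfsg.Agent.SporadicB.HePerm.Simple

/-!
# S4844: the Held group, the prime 5 (helper941)

The permutation character of the rank 5 action on 2058 points is 1 + 51 + 51 + 680 + 1275, and `1275 = 5 ^ 2 * 51`.
-/

set_option autoImplicit false
set_option maxRecDepth 100000

namespace Cfsg.Agent.H941.Sq.He

open Cfsg
open Cfsg.Spor.He (Gen)
open Cfsg.Agent.SporadicB.HePerm Cfsg.Agent.FixBN.HeStab Cfsg.Agent.CpAutHe.Cnt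
open Cfsg.Agent.H33

universe u

/-- words moving the point 0 to the representatives of the suborbits -/
def ww : Fin 5 → List Gen :=
  ![[], [.b], [.e, .d, .a, .b, .c, .d, .c, .b], [.g, .f, .d, .c, .d, .c, .b], [.g, .c, .d, .b, .c, .d, .f, .e, .d, .c, .b]]

/-- the preimages of the point 0 -/
def iv : Fin 5 → Fin 2058 := ![0, 1, 13, 728, 292]

/-- the suborbit lengths -/
def ss : Fin 5 → ℕ := ![1, 1360, 425, 136, 136]

/-- the intersection matrix of a suborbit of length 136 -/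
def KK : Fin 5 → Fin 5 → ℕ :=
  ![![0, 0, 0, 136, 0], ![0, 90, 30, 6, 10], ![0, 96, 16, 24, 0], ![0, 100, 0, 0, 36], ![1, 60, 75, 0, 0]]

/-- the spherical function -/
noncomputable def vv : Fin 5 → ℂ := ![1, 1 / 85, -9 / 425, -1 / 34, -1 / 34]

/-- the test for the counts -/
def tt (i j : ℕ) (w : List Gen) (y : ℕ) : Bool :=
  and (Nat.beq (ivl (look Data.kPos y)) i) (Nat.beq (ivl (look Data.kPos (act w y))) j)

theorem c0 : (cnt 2058 (tt 3 0 []), cnt 2058 (tt 3 1 []), cnt 2058 (tt 3 2 []), cnt 2058 (tt 3 3 []),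
    cnt 2058 (tt 3 4 [])) = (0, 0, 0, 136, 0) := by decide +kernel

theorem c1 : (cnt 2058 (tt 3 0 (ww 1)), cnt 2058 (tt 3 1 (ww 1)), cnt 2058 (tt 3 2 (ww 1)), cnt 2058 (tt 3 3 (ww 1)),
    cnt 2058 (tt 3 4 (ww 1))) = (0, 90, 30, 6, 10) := by decide +kernel

theorem c2 : (cnt 2058 (tt 3 0 (ww 2)), cnt 2058 (tt 3 1 (ww 2)), cnt 2058 (tt 3 2 (ww 2)), cnt 2058 (tt 3 3 (ww 2)),
    cnt 2058 (tt 3 4 (ww 2))) = (0, 96, 16, 24, 0) := by decide +kernel

theorem c3 : (cnt 2058 (tt 3 0 (ww 3)), cnt 2058 (tt 3 1 (ww 3)), cnt 2058 (tt 3 2 (ww 3)), cnt 2058 (tt 3 3 (ww 3)),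
    cnt 2058 (tt 3 4 (ww 3))) = (0, 100, 0, 0, 36) := by decide +kernel

theorem c4 : (cnt 2058 (tt 3 0 (ww 4)), cnt 2058 (tt 3 1 (ww 4)), cnt 2058 (tt 3 2 (ww 4)), cnt 2058 (tt 3 3 (ww 4)),
    cnt 2058 (tt 3 4 (ww 4))) = (1, 60, 75, 0, 0) := by decide +kernel

theorem cK (i j : Fin 5) : cnt 2058 (tt 3 j (ww i)) = KK i j := by
  have h0 := c0
  have h1 := c1
  have h2 := c2
  have h3 := c3
  have h4 := c4
  simp only [Prod.mk.injEq] at h0 h1 h2 h3 h4
  fin_cases i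
  · fin_cases j
    exacts [h0.1, h0.2.1, h0.2.2.1, h0.2.2.2.1, h0.2.2.2.2]
  · fin_cases j
    exacts [h1.1, h1.2.1, h1.2.2.1, h1.2.2.2.1, h1.2.2.2.2]
  · fin_cases j
    exacts [h2.1, h2.2.1, h2.2.2.1, h2.2.2.2.1, h2.2.2.2.2]
  · fin_cases j
    exacts [h3.1, h3.2.1, h3.2.2.1, h3.2.2.2.1, h3.2.2.2.2]
  · fin_cases j
    exacts [h4.1, h4.2.1, h4.2.2.1, h4.2.2.2.1, h4.2.2.2.2]

theorem chkR : (and (Nat.beq (act (ww 0) 0) 0) (and (Nat.beq (act (ww 1) 0) 1) (and (Nat.beq (act (ww 2) 0) 8)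
    (and (Nat.beq (act (ww 3) 0) 37) (Nat.beq (act (ww 4) 0) 218))))) = true := by decide +kernel

theorem chkI : (and (Nat.beq (act (ww 0) 0) 0) (and (Nat.beq (act (ww 1) 1) 0) (and (Nat.beq (act (ww 2) 13) 0)
    (and (Nat.beq (act (ww 3) 728) 0) (Nat.beq (act (ww 4) 292) 0))))) = true := by decide +kernel

theorem chkL : (and (Nat.beq (ivl (look Data.kPos 0)) 0) (and (Nat.beq (ivl (look Data.kPos 1)) 1)
    (and (Nat.beq (ivl (look Data.kPos 13)) 2)
    (and (Nat.beq (ivl (look Data.kPos 728)) 4) (Nat.beq (ivl (look Data.kPos 292)) 3))))) = true := by decide +kernel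

theorem card_fin {n : ℕ} (P : ℕ → Bool) : (Finset.univ.filter (fun y : Fin n => P y = true)).card = cnt n P := by
  rw [← card_filter]
  refine Finset.card_bij (fun y _ => (y : ℕ)) ?_ ?_ ?_
  · intro y hy
    exact Finset.mem_filter.2 ⟨Finset.mem_range.2 y.2, (Finset.mem_filter.1 hy).2⟩
  · intro y _ z _ h
    exact Fin.ext h
  · intro y hy
    obtain ⟨h1, h2⟩ := Finset.mem_filter.1 hy
    exact ⟨⟨y, Finset.mem_range.1 h1⟩, Finset.mem_filter.2 ⟨Finset.mem_univ _, h2⟩, rfl⟩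

/-- the colour of a point -/
def colF (y : Fin 2058) : Fin 5 := ⟨lab y, lab_lt y⟩

theorem colF_eq {y : Fin 2058} {i : Fin 5} : colF y = i ↔ lab y = i := by
  rw [colF, Fin.ext_iff]

theorem ww_root (i : Fin 5) : phi (wd (ww i)) 0 = root i := by
  have h := chkR
  simp only [Bool.and_eq_true] at h
  obtain ⟨h0, h1, h2, h3, h4⟩ := h
  apply Fin.ext
  rw [phi_wd_apply]
  fin_cases i
  exacts [Nat.eq_of_beq_eq_true h0, Nat.eq_of_beq_eq_true h1, Nat.eq_of_beq_eq_true h2, Nat.eq_of_beq_eq_true h3,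
    Nat.eq_of_beq_eq_true h4]

theorem ww_iv (i : Fin 5) : (phi (wd (ww i))⁻¹) 0 = iv i := by
  have h := chkI
  simp only [Bool.and_eq_true] at h
  obtain ⟨h0, h1, h2, h3, h4⟩ := h
  have key : phi (wd (ww i)) (iv i) = 0 := by
    apply Fin.ext
    rw [phi_wd_apply]
    fin_cases i
    exacts [Nat.eq_of_beq_eq_true h0, Nat.eq_of_beq_eq_true h1, Nat.eq_of_beq_eq_true h2, Nat.eq_of_beq_eq_true h3,
      Nat.eq_of_beq_eq_true h4]
  rw [← key, map_inv, inv_app]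

theorem lab_root (j : Fin 5) : lab (root j) = j := by
  have hmem : root j ∈ sub j := by
    have h := rootCheck
    simp only [Bool.and_eq_true] at h
    obtain ⟨h0, h1, h2, h3, h4⟩ := h
    have e : ∀ {base n : ℕ} {ws : List (List Gen)}
        (h : treeCheck ws Data.kOrd Data.kPar Data.kGen Data.kPos base n = true) (hn : 0 < n) (r : Fin 2058)
        (hr : Nat.beq (look Data.kOrd base) r = true), r ∈ pts h := by
      intro base n ws h hn r hr
      unfold pts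
      rw [Finset.mem_image]
      exact ⟨⟨0, hn⟩, Finset.mem_univ _, Fin.ext (Nat.eq_of_beq_eq_true hr)⟩
    fin_cases j
    exacts [e treeK0 (by norm_num) _ h0, e treeK1 (by norm_num) _ h1, e treeK2 (by norm_num) _ h2,
      e treeK3 (by norm_num) _ h3, e treeK4 (by norm_num) _ h4]
  exact (mem_sub j j.2 _).1 hmem

theorem col_stab (h : Cfsg.Spor.He) (hh : phi h 0 = 0) (x : Fin 2058) : colF (phi h x) = colF x := by
  rw [colF_eq]
  show lab (phi h x) = lab x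
  have hm : phi h ∈ phi.range ⊓ fixer 0 := ⟨⟨h, rfl⟩, hh⟩
  rw [← stab_eq_closure] at hm
  refine lab_closure ?_ x
  have hs : {q | ∃ w ∈ wordsK, q = (w.map pm).prod} = {p | ∃ w ∈ wordsK, (w.map pm).prod = p} := by
    ext q
    exact ⟨fun ⟨w, hw, e⟩ => ⟨w, hw, e.symm⟩, fun ⟨w, hw, e⟩ => ⟨w, hw, e.symm⟩⟩
  rw [hs]
  exact hm

theorem htr (x : Fin 2058) : ∃ h, phi h 0 = 0 ∧ phi h (phi (wd (ww (colF x))) 0) = x := by
  obtain ⟨p, hp, hpx⟩ := reach_sub (colF x) (colF x).2 (phi.range ⊓ fixer 0) (fun w hw => prod_mem_stab hw) x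
    ((mem_sub _ (colF x).2 x).2 rfl)
  obtain ⟨⟨h, rfl⟩, h0⟩ := hp
  exact ⟨h, h0, by rw [ww_root]; exact hpx⟩

theorem hsz (i : Fin 5) : (Finset.univ.filter (fun x => colF x = i)).card = ss i := by
  have h1 : Finset.univ.filter (fun x => colF x = i) = sub i := by
    ext x
    rw [Finset.mem_filter, mem_sub i i.2, colF_eq]
    simp
  rw [h1, card_sub]
  fin_cases i <;> rfl

theorem hk (i j : Fin 5) :
    (Finset.univ.filter (fun y => colF y = 3 ∧ colF (phi (wd (ww i)) y) = j)).card = KK i j := by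
  rw [← cK i j, ← card_fin]
  congr 1
  ext y
  simp only [Finset.mem_filter, Finset.mem_univ, true_and]
  rw [colF_eq, colF_eq]
  unfold tt lab
  rw [phi_wd_apply, Bool.and_eq_true]
  constructor
  · rintro ⟨h1, h2⟩
    exact ⟨by rw [h1]; rfl, by rw [h2]; exact Nat.beq_refl _⟩
  · rintro ⟨h1, h2⟩
    exact ⟨Nat.eq_of_beq_eq_true h1, Nat.eq_of_beq_eq_true h2⟩

theorem hvi (i : Fin 5) : vv (colF ((phi (wd (ww i))⁻¹) 0)) = vv i := by
  rw [ww_iv]
  have h := chkL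
  simp only [Bool.and_eq_true] at h
  obtain ⟨h0, h1, h2, h3, h4⟩ := h
  have e : ∀ {y : Fin 2058} {j : Fin 5} (h : Nat.beq (ivl (look Data.kPos y)) j = true), colF y = j :=
    fun h => colF_eq.2 (Nat.eq_of_beq_eq_true h)
  fin_cases i
  · show vv (colF 0) = _
    rw [e (j := 0) h0]
    rfl
  · show vv (colF 1) = _
    rw [e (j := 1) h1]
    rfl
  · show vv (colF 13) = _
    rw [e (j := 2) h2]
    rfl
  · show vv (colF 728) = _
    rw [e (j := 4) h3]
    rfl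
  · show vv (colF 292) = _
    rw [e (j := 3) h4]
    rfl

theorem hv (i : Fin 5) : ∑ j, (KK i j : ℂ) * vv j = (-4) * vv i := by
  fin_cases i <;> (simp [Fin.sum_univ_five, KK, vv]; norm_num)

theorem hu (x : Fin 5 → ℂ) (hx : ∀ i, ∑ j, (KK i j : ℂ) * x j = (-4) * x i) (i : Fin 5) : x i = x 0 * vv i := by
  have e0 := hx 0
  have e1 := hx 1
  have e2 := hx 2
  have e3 := hx 3
  simp [Fin.sum_univ_five, KK] at e0 e1 e2 e3
  fin_cases i
  · simp [vv]
  · simp [vv]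
    linear_combination (-1 / 340 : ℂ) * e0 - (9 / 700 : ℂ) * e1 + (27 / 1400 : ℂ) * e2 + (1 / 280 : ℂ) * e3
  · simp [vv]
    linear_combination (9 / 1700 : ℂ) * e0 + (54 / 875 : ℂ) * e1 - (149 / 3500 : ℂ) * e2 - (3 / 175 : ℂ) * e3
  · simp [vv]
    linear_combination (1 / 136 : ℂ) * e0
  · simp [vv]
    linear_combination (1 / 136 : ℂ) * e0 + (1 / 28 : ℂ) * e1 - (3 / 56 : ℂ) * e2 + (1 / 56 : ℂ) * e3

theorem hK : ∑ i, (ss i : ℂ) * vv i ^ 2 = 686 / 425 := by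
  simp [Fin.sum_univ_five, ss, vv]
  norm_num

theorem exists_1275 : ∃ χ : IrrCharacter Cfsg.Spor.He, charDegree (χ : Cfsg.Spor.He → ℂ) = 1275 := by
  obtain ⟨χ, hχ⟩ := Col.exists_irr_of_col phi (0 : Fin 2058) colF col_stab (fun i => wd (ww i)) htr
    (fun i => by rw [ww_root, colF_eq]; exact lab_root i) ss hsz 3 KK hk 0 rfl vv hvi (-4) rfl hv hu hK (by norm_num)
  refine ⟨χ, H670.PSing.charDegree_eq_of ?_⟩
  rw [Nat.card_eq_fintype_card, Fintype.card_fin] at hχ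
  have h : (χ : Cfsg.Spor.He → ℂ) 1 = 2058 * (425 / 686) := by
    linear_combination (425 / 686 : ℂ) * hχ
  rw [h]
  norm_num

theorem im5 : IM (5 ^ 2) Cfsg.Spor.He := by
  obtain ⟨χ, hχ⟩ := exists_1275
  exact ⟨χ, by rw [hχ]; decide⟩

end Cfsg.Agent.H941.Sq.He
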