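import Cfsg.Agent.H941.Sq.Easy
import Cfsg.Agent.H941.Sq.HSFive
import Cfsg.Agent.H941.Sq.HeFive

/-!
# S4844: the rows `He`, `HS`, `J₂` (helper941)

`sq_he`; `sq_hs_of`, `sq_j2_of` (from the cases `p = 3` and `p = 5`).
-/

set_option autoImplicit false
set_option linter.unusedSectionVars false
open Cfsg

namespace Cfsg.Agent.H941.Sq

open Cfsg.Agent.H33 Cfsg.Agent.H852.IMMathieu

universe u

section rows

variable {S : Type u} [Group S] [Finite S] {p : ℕ} [hp : Fact p.Prime]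

theorem sq_he (h : Spor.IsoHe S) (_hs : IsSimpleGroup S) (hp2 : p ≠ 2) (hd : p ^ 2 ∣ Nat.card S) : IM (p ^ 2) S := by
  rw [NotCT.Orders.he h] at hd
  obtain ⟨hm, hd⟩ := eq_of_sq hp.out hd [2, 2, 2, 2, 2, 2, 2, 2, 2, 2, 3, 3, 3, 5, 5, 7, 7, 7, 17] (by decide) (by decide)
  obtain ⟨e⟩ := h
  have h3 : IM (3 ^ 2) S := IM.of_equiv e He.im3
  have h5 : IM (5 ^ 2) S := IM.of_equiv e He.im5
  have h7 : IM (7 ^ 2) S := IM.of_equiv e He.im7
  simp only [List.mem_cons, List.not_mem_nil, or_false] at hm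
  rcases hm with rfl | rfl | rfl | rfl | rfl | rfl | rfl | rfl | rfl | rfl | rfl | rfl | rfl | rfl | rfl | rfl | rfl | rfl | rfl <;>
    first | exact absurd rfl hp2 | exact absurd hd (by decide) | exact h3 | exact h5 | exact h7

theorem sq_hs_five (h : Spor.IsoHS S) : IM (5 ^ 2) S := by
  obtain ⟨e⟩ := h
  have : Fact (Nat.Prime 5) := ⟨by norm_num⟩
  exact IM.of_equiv e HS.im_five

theorem sq_hs_of (h : Spor.IsoHS S) (h3 : IM (3 ^ 2) S) (hp2 : p ≠ 2) (hd : p ^ 2 ∣ Nat.card S) : IM (p ^ 2) S := by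
  rw [NotCT.Orders.hs h] at hd
  obtain ⟨hm, hd⟩ := eq_of_sq hp.out hd [2, 2, 2, 2, 2, 2, 2, 2, 2, 3, 3, 5, 5, 5, 7, 11] (by decide) (by decide)
  have h5 := sq_hs_five h
  simp only [List.mem_cons, List.not_mem_nil, or_false] at hm
  rcases hm with rfl | rfl | rfl | rfl | rfl | rfl | rfl | rfl | rfl | rfl | rfl | rfl | rfl | rfl | rfl | rfl <;>
    first | exact absurd rfl hp2 | exact absurd hd (by decide) | exact h3 | exact h5

theorem sq_j2_of (h : Spor.IsoJ2 S) (h5 : IM (5 ^ 2) S) (hp2 : p ≠ 2) (hd : p ^ 2 ∣ Nat.card S) : IM (p ^ 2) S := by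
  have h3 := sq_j2_three h
  rw [NotCT.Orders.j2 h] at hd
  obtain ⟨hm, hd⟩ := eq_of_sq hp.out hd [2, 2, 2, 2, 2, 2, 2, 3, 3, 3, 5, 5, 7] (by decide) (by decide)
  simp only [List.mem_cons, List.not_mem_nil, or_false] at hm
  rcases hm with rfl | rfl | rfl | rfl | rfl | rfl | rfl | rfl | rfl | rfl | rfl | rfl | rfl <;>
    first | exact absurd rfl hp2 | exact absurd hd (by decide) | exact h3 | exact h5

end rows

end Cfsg.Agent.H941.Sq
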