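import Cfsg.Agent.H492.PermHecke

/-!
# Irreducible characters from a coloured permutation action (helper941)

`G` acts on a finite set `X` (through `φ`), `H` is the stabilizer of `x₀`, `col : X → Fin m` is a complete invariant of the
`H`-orbits. From the numbers `k i j = #{y | col y = a ∧ col (w i • y) = j}` an eigenvalue of multiplicity 1 of the matrix `k`
gives an irreducible character of exact degree (`exists_irr_of_col`). This is `H492/PermHecke.lean` (helper492) without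
the hypothesis that the lengths of the suborbits are distinct: only the eigenvector has to take the same value on paired
suborbits.
-/

set_option autoImplicit false

namespace Cfsg.Agent.H941.Sq.Col

open Cfsg Cfsg.Agent.Characters.Core Cfsg.Agent.H492.IMSph Cfsg.Agent.H492.NodeHecke
open scoped ComplexConjugate

universe u v

variable {G : Type u} [Group G]

/-- **Irreducible characters from an operator on biinvariant functions.** -/
theorem exists_irr_of_lab' [Fintype G] (H : Subgroup G) [Fintype H] (t : G) {m : ℕ}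
    (lab : G → Fin m) (w : Fin m → G)
    (hlabl : ∀ h ∈ H, ∀ g, lab (h * g) = lab g) (hlabr : ∀ h ∈ H, ∀ g, lab (g * h) = lab g)
    (hw : ∀ g, ∃ a ∈ H, ∃ b ∈ H, g = a * w (lab g) * b)
    (N : ℂ) (hN : N ≠ 0) (k : Fin m → Fin m → ℂ)
    (hsum : ∀ f : G → ℂ, (∀ h ∈ H, ∀ g, f (h * g) = f g) → (∀ h ∈ H, ∀ g, f (g * h) = f g) →
      ∀ g, ∑ h : H, f (g * h * t) = N * ∑ j, k (lab g) j * f (w j))
    (hlabw : ∀ i, lab (w i) = i)
    (sz : Fin m → ℕ) (hsz : ∀ i, (Finset.univ.filter (fun g : G => lab g = i)).card =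
      Nat.card H * sz i)
    (i0 : Fin m) (hi0 : w i0 = 1) (v : Fin m → ℂ) (hlabi : ∀ g, v (lab g⁻¹) = v (lab g)) (μ : ℂ) (hv0 : v i0 = 1)
    (hv : ∀ i, ∑ j, k i j * v j = μ * v i)
    (hu : ∀ x : Fin m → ℂ, (∀ i, ∑ j, k i j * x j = μ * x i) → ∀ i, x i = x i0 * v i)
    {K : ℂ} (hK : ∑ i, (sz i : ℂ) * v i ^ 2 = K) (hK0 : K ≠ 0) :
    ∃ χ : IrrCharacter G, (χ : G → ℂ) 1 * K = H.index := by
  classical
  have hHc : ((Nat.card H : ℕ) : ℂ) ≠ 0 := by exact_mod_cast Nat.card_pos.ne'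
  have hf : ∀ f : G → ℂ, (∀ h ∈ H, ∀ g, f (h * g) = f g) → (∀ h ∈ H, ∀ g, f (g * h) = f g) →
      ∀ g, f g = f (w (lab g)) := by
    intro f hl hr g
    obtain ⟨a, ha, b, hb, e⟩ := hw g
    nth_rewrite 1 [e]
    rw [hr b hb, hl a ha]
  have hκ : ∑ z : G, v (lab z) * v (lab z⁻¹) = (Nat.card H : ℂ) * K := by
    have h1 : ∀ z, v (lab z) * v (lab z⁻¹) = v (lab z) ^ 2 := by
      intro z
      rw [hlabi, sq]
    rw [Finset.sum_congr rfl fun z _ => h1 z]
    rw [← Finset.sum_fiberwise (s := Finset.univ) (g := fun z : G => lab z), ← hK, Finset.mul_sum]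
    refine Finset.sum_congr rfl fun i _ => ?_
    have h2 : ∀ z ∈ Finset.univ.filter (fun z : G => lab z = i), v (lab z) ^ 2 = v i ^ 2 := by
      intro z hz
      rw [(Finset.mem_filter.1 hz).2]
    rw [Finset.sum_congr rfl h2, Finset.sum_const, nsmul_eq_mul, hsz]
    push_cast
    ring
  have hmain := exists_irr_of_hecke H t (φ := fun g => v (lab g))
    (μ := N * μ) (κ := (Nat.card H : ℂ) * K) ?_ ?_ ?_ ?_ ?_ hκ (mul_ne_zero hHc hK0)
  · obtain ⟨χ, hχ⟩ := hmain
    refine ⟨χ, ?_⟩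
    have h1 := H.card_mul_index
    have h2 : ((Nat.card H : ℕ) : ℂ) * H.index = Nat.card G := by exact_mod_cast h1
    rw [← h2] at hχ
    apply mul_left_cancel₀ hHc
    rw [← hχ]
    ring
  · intro h hh g
    show v (lab (h * g)) = v (lab g)
    rw [hlabl h hh]
  · intro h hh g
    show v (lab (g * h)) = v (lab g)
    rw [hlabr h hh]
  · show v (lab 1) = 1
    have : lab 1 = i0 := by rw [← hi0]; exact hlabw i0
    rw [this, hv0]
  · intro g
    rw [hsum (fun g => v (lab g)) (fun h hh g => by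
      show v (lab (h * g)) = v (lab g)
      rw [hlabl h hh]) (fun h hh g => by
      show v (lab (g * h)) = v (lab g)
      rw [hlabr h hh])]
    rw [mul_assoc, ← hv (lab g)]
    congr 1
    exact Finset.sum_congr rfl fun j _ => by rw [hlabw]
  · intro f hl hr hT g
    have h1 := hu (fun i => f (w i)) (fun i => by
      have h2 := hT (w i)
      rw [hsum f hl hr, hlabw, mul_assoc] at h2
      exact mul_left_cancel₀ hN h2) (lab g)
    show f g = f 1 * v (lab g)
    rw [hf f hl hr g, h1, hi0]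


/-- The sum over a subgroup as a sum over an orbit. -/
theorem sum_orbit [Fintype G] {X : Type v} [Fintype X] [DecidableEq X] (H : Subgroup G) [Fintype H]
    (φ : G →* Equiv.Perm X) (D : Finset X)
    {y : X} (hD : ∀ p, (∃ x ∈ H, φ x y = p) ↔ p ∈ D) (F : X → ℂ) :
    (D.card : ℂ) * ∑ h : H, F (φ h y) = (Nat.card H : ℂ) * ∑ p ∈ D, F p := by
  classical
  have hst : ∀ h ∈ H, ∀ p, p ∈ D → φ h p ∈ D := by
    intro h hh p hp
    obtain ⟨x, hx, rfl⟩ := (hD p).2 hp
    exact (hD _).1 ⟨h * x, H.mul_mem hh hx, by rw [map_mul, Equiv.Perm.mul_apply]⟩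
  have h1 : ∀ p ∈ D, ∑ h : H, F (φ h p) = ∑ h : H, F (φ h y) := by
    intro p hp
    obtain ⟨x, hx, rfl⟩ := (hD p).2 hp
    rw [← Equiv.sum_comp (Equiv.mulRight (⟨x, hx⟩ : H)) (fun h : H => F (φ h y))]
    refine Finset.sum_congr rfl fun h _ => ?_
    simp only [Equiv.coe_mulRight, Subgroup.coe_mul, map_mul, Equiv.Perm.mul_apply]
  have h2 : ∀ h : H, ∑ p ∈ D, F (φ h p) = ∑ p ∈ D, F p := by
    intro h
    refine Finset.sum_bij' (fun p _ => φ h p) (fun p _ => φ (h : G)⁻¹ p)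
      (fun p hp => hst h h.2 p hp) (fun p hp => hst _ (H.inv_mem h.2) p hp) ?_ ?_ ?_
    · intro p _; simp
    · intro p _; simp
    · intro p _; rfl
  calc (D.card : ℂ) * ∑ h : H, F (φ h y) = ∑ p ∈ D, ∑ h : H, F (φ h y) := by
        rw [Finset.sum_const, nsmul_eq_mul]
    _ = ∑ p ∈ D, ∑ h : H, F (φ h p) := Finset.sum_congr rfl fun p hp => (h1 p hp).symm
    _ = ∑ h : H, ∑ p ∈ D, F (φ h p) := Finset.sum_comm
    _ = ∑ h : H, ∑ p ∈ D, F p := Finset.sum_congr rfl fun h _ => h2 h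
    _ = (Nat.card H : ℂ) * ∑ p ∈ D, F p := by
        rw [Finset.sum_const, nsmul_eq_mul, Finset.card_univ, Nat.card_eq_fintype_card]

theorem inv_app {X : Type v} (φ : G →* Equiv.Perm X) (x : G) (p : X) : φ x⁻¹ (φ x p) = p := by
  rw [← Equiv.Perm.mul_apply, ← map_mul, inv_mul_cancel, map_one]; rfl

/-- **Irreducible characters from a coloured permutation action.** -/
theorem exists_irr_of_col [Finite G] {X : Type v} [Fintype X] [DecidableEq X] (φ : G →* Equiv.Perm X) (x₀ : X)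
    {m : ℕ} (col : X → Fin m) (hcol : ∀ h, φ h x₀ = x₀ → ∀ x, col (φ h x) = col x) (w : Fin m → G)
    (htr : ∀ x, ∃ h, φ h x₀ = x₀ ∧ φ h (φ (w (col x)) x₀) = x) (hw : ∀ i, col (φ (w i) x₀) = i)
    (sz : Fin m → ℕ) (hsz : ∀ i, (Finset.univ.filter (fun x => col x = i)).card = sz i)
    (a : Fin m) (k : Fin m → Fin m → ℕ)
    (hk : ∀ i j, (Finset.univ.filter (fun y => col y = a ∧ col (φ (w i) y) = j)).card = k i j)
    (i0 : Fin m) (hi0 : w i0 = 1) (v : Fin m → ℂ) (hvi : ∀ i, v (col (φ (w i)⁻¹ x₀)) = v i) (μ : ℂ) (hv0 : v i0 = 1)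
    (hv : ∀ i, ∑ j, (k i j : ℂ) * v j = μ * v i)
    (hu : ∀ x : Fin m → ℂ, (∀ i, ∑ j, (k i j : ℂ) * x j = μ * x i) → ∀ i, x i = x i0 * v i)
    {K : ℂ} (hK : ∑ i, (sz i : ℂ) * v i ^ 2 = K) (hK0 : K ≠ 0) :
    ∃ χ : IrrCharacter G, (χ : G → ℂ) 1 * K = Nat.card X := by
  classical
  have := Fintype.ofFinite G
  set H : Subgroup G := (MulAction.stabilizer (Equiv.Perm X) x₀).comap φ with hH
  have hst : ∀ g, φ g x₀ = x₀ ↔ g ∈ H := by
    intro g
    rw [hH, Subgroup.mem_comap, MulAction.mem_stabilizer_iff]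
    rfl
  have := Fintype.ofFinite H
  let lab : G → Fin m := fun g => col (φ g x₀)
  have hH0 : ∀ h ∈ H, φ h x₀ = x₀ := fun h hh => (hst h).2 hh
  have hlabl : ∀ h ∈ H, ∀ g, lab (h * g) = lab g := by
    intro h hh g
    show col (φ (h * g) x₀) = col (φ g x₀)
    rw [map_mul, Equiv.Perm.mul_apply]
    exact hcol h (hH0 h hh) _
  have hlabr : ∀ h ∈ H, ∀ g, lab (g * h) = lab g := by
    intro h hh g
    show col (φ (g * h) x₀) = col (φ g x₀)
    rw [map_mul, Equiv.Perm.mul_apply, hH0 h hh]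
  have hlabw : ∀ i, lab (w i) = i := hw
  have hwc : ∀ g, ∃ a ∈ H, ∃ b ∈ H, g = a * w (lab g) * b := by
    intro g
    obtain ⟨x, hx, hx'⟩ := htr (φ g x₀)
    refine ⟨x, (hst x).1 hx, (w (lab g))⁻¹ * x⁻¹ * g, ?_, by group⟩
    have hx'' : φ g x₀ = φ x (φ (w (lab g)) x₀) := hx'.symm
    rw [← hst, map_mul, map_mul, Equiv.Perm.mul_apply, Equiv.Perm.mul_apply, hx'', inv_app, inv_app]
  have hlabi : ∀ g, v (lab g⁻¹) = v (lab g) := by
    intro g
    obtain ⟨x, hx, y, hy, e⟩ := hwc g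
    have h1 : lab g⁻¹ = lab (w (lab g))⁻¹ := by
      nth_rewrite 1 [e]
      rw [mul_inv_rev, mul_inv_rev, hlabl _ (H.inv_mem hy), hlabr _ (H.inv_mem hx)]
    rw [h1]
    exact hvi _
  -- sizes
  have hcard : ∀ i, (Finset.univ.filter (fun g : G => lab g = i)).card = Nat.card H * sz i := by
    intro i
    have h1 : ∀ g ∈ Finset.univ.filter (fun g : G => lab g = i), φ g x₀ ∈ Finset.univ.filter (fun x => col x = i) := by
      intro g hg
      exact Finset.mem_filter.2 ⟨Finset.mem_univ _, (Finset.mem_filter.1 hg).2⟩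
    rw [Finset.card_eq_sum_card_fiberwise h1, ← hsz i, mul_comm, ← smul_eq_mul,
      ← Finset.sum_const]
    refine Finset.sum_congr rfl fun p hp => ?_
    have hp' : col p = i := (Finset.mem_filter.1 hp).2
    obtain ⟨x, hx, hx'⟩ := htr p
    rw [hp'] at hx'
    rw [Nat.card_eq_fintype_card, ← Finset.card_univ]
    symm
    refine Finset.card_bij (fun (h : H) _ => x * w i * h) ?_ ?_ ?_
    · intro h _
      rw [Finset.mem_filter, Finset.mem_filter]
      refine ⟨⟨Finset.mem_univ _, ?_⟩, ?_⟩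
      · rw [hlabr h h.2, hlabl x ((hst x).1 hx), hlabw]
      · rw [map_mul, map_mul, Equiv.Perm.mul_apply, Equiv.Perm.mul_apply, hH0 h h.2, hx']
    · intro h _ h' _ e
      exact Subtype.ext (mul_left_cancel e)
    · intro g hg
      rw [Finset.mem_filter] at hg
      refine ⟨⟨(x * w i)⁻¹ * g, ?_⟩, Finset.mem_univ _, mul_inv_cancel_left _ _⟩
      have e : p = φ (x * w i) x₀ := by rw [map_mul, Equiv.Perm.mul_apply, hx']
      rw [← hst, map_mul, Equiv.Perm.mul_apply, hg.2, e, inv_app]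
  have hHpos : 0 < Nat.card H := Nat.card_pos
  have hHc : ((Nat.card H : ℕ) : ℂ) ≠ 0 := by exact_mod_cast hHpos.ne'
  set D : Finset X := Finset.univ.filter (fun x => col x = a) with hD
  have hDm : ∀ p, p ∈ D ↔ col p = a := fun p => by rw [hD, Finset.mem_filter]; simp
  have hDa : ((D.card : ℕ) : ℂ) ≠ 0 := by
    have : 0 < D.card := Finset.card_pos.2 ⟨_, (hDm _).2 (hw a)⟩
    exact_mod_cast this.ne'
  have hDo : ∀ p, (∃ x ∈ H, φ x (φ (w a) x₀) = p) ↔ p ∈ D := by
    intro p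
    rw [hDm]
    constructor
    · rintro ⟨x, hx, rfl⟩
      rw [hcol x (hH0 x hx), hw]
    · intro hp
      obtain ⟨x, hx, hx'⟩ := htr p
      rw [hp] at hx'
      exact ⟨x, (hst x).1 hx, hx'⟩
  have hidx : H.index = Nat.card X := by
    have h1 : ∀ x, ∃ g, φ g x₀ = x := by
      intro x
      obtain ⟨h, -, h2⟩ := htr x
      exact ⟨h * w (col x), by rw [map_mul, Equiv.Perm.mul_apply, h2]⟩
    choose s hs using h1
    refine Nat.card_congr
      { toFun := Quotient.lift (fun g => φ g x₀) ?_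
        invFun := fun x => QuotientGroup.mk (s x)
        left_inv := ?_
        right_inv := ?_ }
    · intro g g' h
      have h2 : g⁻¹ * g' ∈ H := QuotientGroup.leftRel_apply.1 h
      rw [← hst] at h2
      show φ g x₀ = φ g' x₀
      have h3 : g' = g * (g⁻¹ * g') := by group
      rw [h3, map_mul, Equiv.Perm.mul_apply, h2]
    · intro q
      obtain ⟨g, rfl⟩ := QuotientGroup.mk_surjective q
      show QuotientGroup.mk (s (φ g x₀)) = _
      rw [QuotientGroup.eq, ← hst, map_mul, Equiv.Perm.mul_apply]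
      have h2 := hs (φ g x₀)
      have h3 := inv_app φ (s (φ g x₀)) x₀
      rw [h2] at h3
      exact h3
    · intro x
      exact hs x
  rw [← hidx]
  refine exists_irr_of_lab' H (w a) lab w hlabl hlabr hwc ((Nat.card H : ℂ) / D.card)
    (div_ne_zero hHc hDa) (fun i j => (k i j : ℂ)) ?_ hlabw sz hcard i0 hi0 v hlabi μ hv0 hv hu hK hK0
  intro f hl hr g
  have hf : ∀ g, f g = f (w (lab g)) := by
    intro g
    obtain ⟨a, ha, b, hb, e⟩ := hwc g
    nth_rewrite 1 [e]
    rw [hr b hb, hl a ha]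
  obtain ⟨x, hx, y, hy, e⟩ := hwc g
  have h1 : ∑ h : H, f (g * h * w a) = ∑ h : H, f (w (lab g) * h * w a) := by
    rw [← Equiv.sum_comp (Equiv.mulLeft (⟨y, hy⟩ : H)) (fun h : H => f (w (lab g) * h * w a))]
    refine Finset.sum_congr rfl fun h _ => ?_
    nth_rewrite 1 [e]
    rw [← hl x hx (w (lab g) * _ * w a)]
    congr 1
    simp only [Equiv.coe_mulLeft, Subgroup.coe_mul, mul_assoc]
  rw [h1]
  let F : X → ℂ := fun p => f (w (col (φ (w (lab g)) p)))
  have h2 : ∀ h : H, f (w (lab g) * h * w a) = F (φ h (φ (w a) x₀)) := by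
    intro h
    rw [hf]
    show f (w (col (φ (w (lab g) * h * w a) x₀))) = f (w (col (φ (w (lab g)) (φ h (φ (w a) x₀)))))
    rw [map_mul, map_mul, Equiv.Perm.mul_apply, Equiv.Perm.mul_apply]
  rw [Finset.sum_congr rfl fun h _ => h2 h]
  have h3 := sum_orbit H φ D hDo F
  have h4 : ∑ p ∈ D, F p = ∑ j, (k (lab g) j : ℂ) * f (w j) := by
    rw [← Finset.sum_fiberwise (s := D) (g := fun p => col (φ (w (lab g)) p))]
    refine Finset.sum_congr rfl fun j _ => ?_
    have h5 : ∀ p ∈ D.filter (fun p => col (φ (w (lab g)) p) = j), F p = f (w j) := by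
      intro p hp
      show f (w (col (φ (w (lab g)) p))) = f (w j)
      rw [(Finset.mem_filter.1 hp).2]
    rw [Finset.sum_congr rfl h5, Finset.sum_const, nsmul_eq_mul, ← hk, hD, Finset.filter_filter]
  rw [h4] at h3
  rw [div_mul_eq_mul_div, eq_div_iff hDa, mul_comm, h3]

end Cfsg.Agent.H941.Sq.Col
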